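import Groth.Agent.H52.FppfFpqc
import Groth.Agent.H53.ZMT.GeomFibreQF
import Groth.Agent.H20.IdealFP

/-!
# Standard fpqc coverings of affine schemes and the refinement condition
-/

set_option autoImplicit false
universe u
open CategoryTheory CategoryTheory.Limits AlgebraicGeometry Opposite

namespace Groth.Agent.H53.Fpqc

open AlgSp

variable {S : Scheme.{u}}

/-- A finite jointly surjective family of flat morphisms from affine schemes to an affine scheme
satisfies the fpqc refinement condition. -/
theorem fpqcRefine_of_standard {κ : Type u} [Finite κ] {T : Over S} (hT : IsAffine T.left)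
    (W : κ → Over S) (c : ∀ k, W k ⟶ T) (hW : ∀ k, IsAffine (W k).left)
    (hc : ∀ k, Flat (c k).left) (hs : ∀ t : ↥T.left, ∃ k, t ∈ Set.range (c k).left) :
    Groth.Agent.H52.FpqcRefine (fun k => (yon S).obj (W k)) (fun k => (yon S).map (c k)) := by
  intro T' hT' h
  obtain ⟨φ, rfl⟩ := (yon S).map_surjective h
  choose W' p₁ p₂ sq sql using fun k => ZMT.exists_over_pullback (c k) φ
  let e := Finite.equivFin κ
  refine ⟨Nat.card κ, fun j => W' (e.symm j), fun j => p₂ (e.symm j), fun j => ?_, fun j => ?_,
    fun z => ?_, fun j => ⟨e.symm j, (yon S).map (p₁ (e.symm j)), ?_⟩⟩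
  · have h1 : IsAffine T.left := hT
    have h2 : IsAffine T'.left := hT'
    have h3 : IsAffine (W (e.symm j)).left := hW _
    have h4 : IsAffine (pullback (c (e.symm j)).left φ.left) := inferInstance
    exact IsAffine.of_isIso (sql (e.symm j)).isoPullback.hom
  · exact MorphismProperty.of_isPullback (sql (e.symm j)) (hc _)
  · obtain ⟨k, w, hw⟩ := hs (φ.left z)
    obtain ⟨x, -, hx⟩ := ZMT.exists_point_of_isPullback_scheme (sql k) w z hw
    obtain ⟨j, rfl⟩ : ∃ j, e.symm j = k := ⟨e k, Equiv.symm_apply_apply _ _⟩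
    exact ⟨j, x, hx⟩
  · rw [← Functor.map_comp, ← Functor.map_comp, (sq (e.symm j)).w]

end Groth.Agent.H53.Fpqc
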