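import Groth.Agent.H53.Fpqc.OneAdd
import Groth.Agent.H53.Fpqc.StdCover
import Groth.Agent.H1.FlatLocusSp
import Groth.Agent.H50.OpenImm
import Groth.Agent.H53.ZMT.GenFinSp

/-!
# An fpqc covering refining an open subspace and a modification flat along the complement
-/

set_option autoImplicit false
universe u
open CategoryTheory CategoryTheory.Limits AlgebraicGeometry Opposite

namespace Groth.Agent.H53.Fpqc

open AlgSp

variable {S : Scheme.{u}}

/-- The complement of a closed immersion of finite presentation into an affine scheme is a finite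
union of basic opens. -/
theorem exists_finset_basicOpen_of_closedImmersion_fp {Z' T : Scheme.{u}} [IsAffine T] (z : Z' ⟶ T)
    [IsClosedImmersion z] [LocallyOfFinitePresentation z] :
    ∃ s : Finset Γ(T, ⊤), ∀ x : T, x ∈ Set.range z ↔ ∀ g ∈ s, x ∉ T.basicOpen g := by
  obtain ⟨s, hs⟩ := Groth.Agent.H20.IdealFP.ker_ideal_fg z ⟨⊤, isAffineOpen_top T⟩
  refine ⟨s, fun x => ?_⟩
  have h1 : (z.ker.support : Set T) = Set.range z := by
    rw [Scheme.Hom.support_ker]
    exact z.isClosedEmbedding.isClosed_range.closure_eq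
  rw [← h1]
  change x ∈ z.ker.support ↔ _
  rw [Scheme.IdealSheafData.mem_support_iff_of_mem (U := ⟨⊤, isAffineOpen_top T⟩) (Set.mem_univ x),
    ← hs, Scheme.zeroLocus_span, Scheme.mem_zeroLocus_iff]
  rfl

/-- A quasi-compact sheaf has an etale surjective chart from the spectrum of a ring. -/
theorem exists_spec_atlas {X₀ : Sp S} (hqc : IsQuasiCompactSp X₀) :
    ∃ (B : CommRingCat.{u}) (str : Spec B ⟶ S) (m : (yon S).obj (Over.mk str) ⟶ X₀),
      RepWith @Etale m ∧ RepWith @Surjective m := by
  obtain ⟨W, m, hWaff, hme, hms⟩ := ZMT.exists_affine_atlas hqc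
  have : IsAffine W.left := hWaff
  let e : (Over.mk (W.left.isoSpec.inv ≫ W.hom) : Over S) ⟶ W := Over.homMk W.left.isoSpec.inv rfl
  refine ⟨Γ(W.left, ⊤), W.left.isoSpec.inv ≫ W.hom, (yon S).map e ≫ m, ?_, ?_⟩
  · exact repWith_etale_map_comp e (by change Etale W.left.isoSpec.inv; infer_instance) m hme
  · exact (RepWith @Surjective).comp_mem _ _
      ((repWith_yon_map_iff _ _).2 (by change Surjective W.left.isoSpec.inv; infer_instance)) hms

/-- An isomorphism of algebraic spaces is surjective on points. -/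
theorem points_map_surjective_of_isIso {F G : AlgSp.Space S} (φ : F ⟶ G) [IsIso φ] :
    Function.Surjective (Points.map φ.hom) := by
  intro ζ
  refine ⟨Points.map (inv φ).hom ζ, ?_⟩
  rw [← Points.map_comp]
  have : (inv φ).hom ≫ φ.hom = 𝟙 G.obj := by
    change (inv φ ≫ φ).hom = _
    rw [IsIso.inv_hom_id]
    rfl
  rw [this, Points.map_id]

/-- **The local step.** Over an etale chart `Spec A ⟶ X` there is a standard fpqc covering of `Spec A`
each member of which maps to `X` through the open complement `U` of `Z` or through `Y`. -/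
theorem exists_standard_cover_chart {X Y Z FZ U : AlgSp.Space S} (f : Y ⟶ X)
    (hqc : IsQuasiCompactMor f.hom) (i : Z ⟶ X) (hi : RepWith @IsClosedImmersion i.hom)
    (hifp : LocP @LocallyOfFinitePresentation i.hom) (iY : FZ ⟶ Y) (fZ : FZ ⟶ Z)
    (hFZ : IsPullback iY.hom fZ.hom f.hom i.hom) [IsIso fZ]
    (hflat : ∀ y ∈ Set.range (Points.map iY.hom), IsFlatAtMor f.hom y) (j : U ⟶ X)
    (hj : RepWith @IsOpenImmersion j.hom)
    (hU : Set.range (Points.map j.hom) = (Set.range (Points.map i.hom))ᶜ)
    (A : CommRingCat.{u}) (tstr : Spec A ⟶ S) (p : (yon S).obj (Over.mk tstr) ⟶ X.obj)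
    (hp : RepWith @Etale p) :
    ∃ (κ : Type u) (_ : Finite κ) (W : κ → Over S) (c : ∀ k, W k ⟶ Over.mk tstr),
      (∀ k, IsAffine (W k).left) ∧ (∀ k, Flat (c k).left) ∧
      (∀ t : ↥(Spec A), ∃ k, t ∈ Set.range (c k).left) ∧
      ∀ k, (∃ l : (yon S).obj (W k) ⟶ U.obj, l ≫ j.hom = (yon S).map (c k) ≫ p) ∨
        (∃ l : (yon S).obj (W k) ⟶ Y.obj, l ≫ f.hom = (yon S).map (c k) ≫ p) := by
  classical
  let T : Over S := Over.mk tstr
  have hTaff : IsAffine T.left := (inferInstance : IsAffine (Spec A))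
  -- the closed subscheme `Z_T`
  have sqZ := hi.rep.isPullback p
  let ZT : Over S := hi.rep.pullback p
  let z : ZT ⟶ T := hi.rep.snd p
  have hzci : IsClosedImmersion z.left := hi.property p _ _ sqZ
  have hzfp : LocallyOfFinitePresentation z.left := by
    have hae : RepWith @Etale (hi.rep.fst p) := MorphismProperty.of_isPullback sqZ.flip hp
    exact hifp (hi.rep.fst p) p z hae hp sqZ.w
  obtain ⟨s, hs⟩ := exists_finset_basicOpen_of_closedImmersion_fp z.left
  have hZT : ∀ t : ↥T.left, t ∈ Set.range z.left ↔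
      Points.ofPt p t ∈ Set.range (Points.map i.hom) := by
    intro t
    constructor
    · rintro ⟨w, rfl⟩
      refine ⟨Points.ofPt (hi.rep.fst p) w, ?_⟩
      rw [Points.map_ofPt, sqZ.w, ofPt_yon_map_comp]
    · rintro ⟨ζ, hζ⟩
      obtain ⟨w, -, hw2⟩ := exists_point_of_isPullback sqZ ζ (Points.ofScheme T t)
        (by rw [hζ, ← Points.ofPt_eq_map_ofScheme])
      obtain ⟨w', rfl⟩ := (Points.schemeEquiv ZT).surjective w
      refine ⟨w', ?_⟩
      apply (Points.schemeEquiv T).injective
      have := Points.map_yon_map_apply z w'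
      exact this.symm.trans hw2
  -- the base change of `Y` and its affine atlas
  let YT : Sp S := pullback f.hom p
  let prY : YT ⟶ Y.obj := pullback.fst f.hom p
  let prT : YT ⟶ (yon S).obj T := pullback.snd f.hom p
  have sqY : IsPullback prY prT f.hom p := IsPullback.of_hasPullback _ _
  have hTqc : IsQuasiCompactSp ((yon S).obj T) :=
    ⟨T, 𝟙 _, repWith_id _ _, repWith_id _ _, (inferInstance : CompactSpace ↥(Spec A))⟩
  have hYTqc : IsQuasiCompactSp YT := hqc (IsAlgSpace.yon_obj T) hTqc p prY prT sqY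
  obtain ⟨B, vstr, m, hme, hms⟩ := exists_spec_atlas hYTqc
  let V : Over S := Over.mk vstr
  obtain ⟨h, hh⟩ := (yon S).map_surjective (m ≫ prT)
  have hprYe : RepWith @Etale prY := MorphismProperty.of_isPullback sqY.flip hp
  let a : (yon S).obj V ⟶ Y.obj := m ≫ prY
  have hae : RepWith @Etale a := (RepWith @Etale).comp_mem _ _ hme hprYe
  have hcomm : a ≫ f.hom = (yon S).map h ≫ p := by
    rw [Category.assoc, sqY.w, ← Category.assoc, hh]
  -- flatness along the preimage of `Z_T`
  let Zc : Set ↥(Spec B) := h.left ⁻¹' (Set.range z.left)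
  have hZc : IsClosed Zc :=
    (z.left.isClosedEmbedding.isClosed_range).preimage h.left.continuous
  have hfl : ∀ v ∈ Zc, (h.left.stalkMap v).hom.Flat := by
    intro v hv
    obtain ⟨ζ, hζ⟩ := (hZT _).1 hv
    have hy : Points.map f.hom (Points.ofPt a v) = Points.map i.hom ζ := by
      rw [Points.map_ofPt, hcomm, ofPt_yon_map_comp, hζ]
    obtain ⟨w, hw1, -⟩ := exists_point_of_isPullback hFZ (Points.ofPt a v) ζ hy
    have := hflat _ ⟨w, hw1⟩
    exact (Groth.Agent.H1.FlatLocusSp.isFlatAtMor_iff_chart f.hom a p h hae hp hcomm v).1 this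
  obtain ⟨φ, hφ⟩ : ∃ φ : A ⟶ B, Spec.map φ = h.left := ⟨Spec.preimage h.left, Spec.map_preimage _⟩
  obtain ⟨B', ψ, hψfl, hψr⟩ := exists_flat_localization_spec φ Zc hZc (by rw [hφ]; exact hfl)
  let V' : Over S := Over.mk (Spec.map ψ ≫ vstr)
  let g : V' ⟶ V := Over.homMk (Spec.map ψ) rfl
  let cV : V' ⟶ T := g ≫ h
  have hcVfl : Flat cV.left := by
    change Flat (Spec.map ψ ≫ h.left)
    rw [← hφ]
    exact hψfl
  -- the family
  let W : Option {g // g ∈ s} → Over S := fun k =>
    match k with
    | none => V'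
    | some g => Groth.Agent.H51.overOpen T (T.left.basicOpen g.1)
  let c : ∀ k, W k ⟶ T := fun k =>
    match k with
    | none => cV
    | some g => Groth.Agent.H51.overOpenι T (T.left.basicOpen g.1)
  refine ⟨Option {g // g ∈ s}, inferInstance, W, c, ?_, ?_, ?_, ?_⟩
  · rintro (_ | g)
    · exact (inferInstance : IsAffine (Spec B'))
    · exact (isAffineOpen_top T.left).basicOpen g.1
  · rintro (_ | g)
    · exact hcVfl
    · change Flat (T.left.basicOpen g.1).ι
      infer_instance
  · intro t
    by_cases ht : t ∈ Set.range z.left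
    · obtain ⟨ζ, hζ⟩ := (hZT t).1 ht
      obtain ⟨w, rfl⟩ := points_map_surjective_of_isIso fZ ζ
      have hy : Points.map f.hom (Points.map iY.hom w) = Points.map p (Points.ofScheme T t) := by
        rw [← Points.ofPt_eq_map_ofScheme, ← hζ, ← Points.map_comp, ← Points.map_comp, hFZ.w]
      obtain ⟨yt, -, hyt⟩ := exists_point_of_isPullback sqY _ _ hy
      obtain ⟨v, hv⟩ := exists_ofPt_eq_of_repWith_surjective m hms yt
      have hvt : h.left v = t := by
        apply (Points.schemeEquiv T).injective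
        change Points.ofPt (𝟙 _) (h.left v) = Points.ofScheme T t
        rw [← ofPt_yon_map_comp, Category.comp_id, hh, ← Points.map_ofPt, hv, hyt]
      have hvZc : v ∈ Zc := by
        change h.left v ∈ Set.range z.left
        rw [hvt]
        exact ht
      obtain ⟨v', hv'⟩ := hψr hvZc
      refine ⟨none, v', ?_⟩
      change (Spec.map ψ ≫ h.left) v' = t
      rw [Scheme.Hom.comp_apply, hv', hvt]
    · have := (hs t).not.1 ht
      push Not at this
      obtain ⟨g, hg, htg⟩ := this
      refine ⟨some ⟨g, hg⟩, ?_⟩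
      change t ∈ Set.range (T.left.basicOpen g).ι
      rw [Scheme.Opens.range_ι]
      exact htg
  · rintro (_ | g)
    · right
      refine ⟨(yon S).map g ≫ a, ?_⟩
      rw [Category.assoc, hcomm, ← Category.assoc, ← Functor.map_comp]
    · left
      refine Groth.Agent.H50.exists_factor_of_isOpenImmersion j.hom hj _ ?_
      rintro _ ⟨x, rfl⟩
      obtain ⟨w, rfl⟩ := (Points.schemeEquiv _).surjective x
      change Points.map _ (Points.ofScheme _ w) ∈ _
      rw [← Points.ofPt_eq_map_ofScheme, ofPt_yon_map_comp, hU, Set.mem_compl_iff, ← hZT, hs]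
      push Not
      refine ⟨g.1, g.2, ?_⟩
      exact w.2

end Groth.Agent.H53.Fpqc
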