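import Mathlib

/-!
# Localization at `1 + J` and flatness along `V(J)`
-/

set_option autoImplicit false
universe u
open CategoryTheory AlgebraicGeometry

namespace Groth.Agent.H53.Fpqc

section Algebra

variable {A B : Type u} [CommRing A] [CommRing B]

/-- The submonoid `1 + J`. -/
def oneAdd (J : Ideal B) : Submonoid B where
  carrier := {b | b - 1 ∈ J}
  one_mem' := by simp
  mul_mem' := by
    intro a b ha hb
    have h : a * b - 1 = a * (b - 1) + (a - 1) := by ring
    change a * b - 1 ∈ J
    rw [h]
    exact J.add_mem (J.mul_mem_left _ hb) ha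

theorem mem_oneAdd {J : Ideal B} {b : B} : b ∈ oneAdd J ↔ b - 1 ∈ J := Iff.rfl

theorem disjoint_oneAdd {J : Ideal B} (q : Ideal B) [hq : q.IsPrime] (hJ : J ≤ q) :
    Disjoint (oneAdd J : Set B) (q : Set B) := by
  rw [Set.disjoint_left]
  intro b hb hbq
  apply hq.ne_top
  rw [Ideal.eq_top_iff_one]
  have : (1 : B) = b - (b - 1) := by ring
  rw [this]
  exact q.sub_mem hbq (hJ hb)

/-- A maximal ideal of the localization at `1 + J` lies over a prime containing `J`. -/
theorem le_comap_of_isMaximal (J : Ideal B) (P : Ideal (Localization (oneAdd J))) [hP : P.IsMaximal] :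
    J ≤ P.comap (algebraMap B (Localization (oneAdd J))) := by
  intro x hx
  by_contra hxq
  rw [Ideal.mem_comap] at hxq
  obtain ⟨y, i, hi, hyi⟩ := hP.exists_inv hxq
  obtain ⟨⟨b, m⟩, hbm⟩ := IsLocalization.surj (oneAdd J) y
  -- `y * m = b`
  have h1 : algebraMap B (Localization (oneAdd J)) (m - b * x) ∈ P := by
    have : algebraMap B (Localization (oneAdd J)) (m - b * x) =
        algebraMap B (Localization (oneAdd J)) m * i := by
      rw [map_sub, map_mul, ← hbm]
      have : algebraMap B (Localization (oneAdd J)) (m : B) =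
          algebraMap B (Localization (oneAdd J)) m * (y * algebraMap B _ x + i) := by
        rw [hyi, mul_one]
      simp only at this ⊢
      linear_combination this
    rw [this]
    exact P.mul_mem_left _ hi
  have h2 : ((m : B) - b * x) ∈ oneAdd J := by
    rw [mem_oneAdd]
    have : (m : B) - b * x - 1 = ((m : B) - 1) - b * x := by ring
    rw [this]
    exact J.sub_mem m.2 (J.mul_mem_left _ hx)
  have h3 : IsUnit (algebraMap B (Localization (oneAdd J)) ((m : B) - b * x)) :=
    IsLocalization.map_units _ (⟨_, h2⟩ : oneAdd J)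
  exact hP.ne_top (Ideal.eq_top_of_isUnit_mem _ h1 h3)

variable [Algebra A B]

/-- If `B` is flat over `A` at all primes containing `J`, the localization of `B` at `1 + J` is flat
over `A`. -/
theorem flat_localization_oneAdd (J : Ideal B)
    (H : ∀ (q : Ideal B) [q.IsPrime], J ≤ q → Module.Flat A (Localization.AtPrime q)) :
    Module.Flat A (Localization (oneAdd J)) := by
  apply Module.flat_of_isLocalized_maximal (Localization (oneAdd J)) (Localization (oneAdd J))
    (fun P _ => Localization.AtPrime P) (fun P _ => Algebra.linearMap _ _)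
  intro P hP
  have hq : J ≤ P.comap (algebraMap B (Localization (oneAdd J))) := le_comap_of_isMaximal J P
  have hloc : IsLocalization.AtPrime (Localization.AtPrime P)
      (P.comap (algebraMap B (Localization (oneAdd J)))) :=
    IsLocalization.isLocalization_isLocalization_atPrime_isLocalization (oneAdd J) _ P
  have hflat := H _ hq
  let e : Localization.AtPrime (P.comap (algebraMap B (Localization (oneAdd J)))) ≃ₐ[B]
      Localization.AtPrime P :=
    IsLocalization.algEquiv (P.comap (algebraMap B (Localization (oneAdd J)))).primeCompl _ _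
  exact Module.Flat.of_linearEquiv ((e.restrictScalars A).toLinearEquiv).symm

end Algebra

section Spec

/-- For a morphism `Spec B ⟶ Spec A` which is flat at all points of a closed subset `Zc`, there is a
localization `B'` of `B`, flat over `A`, whose spectrum contains `Zc`. -/
theorem exists_flat_localization_spec {A B : CommRingCat.{u}} (φ : A ⟶ B) (Zc : Set ↥(Spec B))
    (hZc : IsClosed Zc) (H : ∀ v ∈ Zc, ((Spec.map φ).stalkMap v).hom.Flat) :
    ∃ (B' : CommRingCat.{u}) (ψ : B ⟶ B'), Flat (Spec.map ψ ≫ Spec.map φ) ∧
      Zc ⊆ Set.range (Spec.map ψ) := by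
  let J : Ideal B := PrimeSpectrum.vanishingIdeal (Zc : Set (PrimeSpectrum B))
  have hJ : PrimeSpectrum.zeroLocus (J : Set B) = Zc := by
    rw [PrimeSpectrum.zeroLocus_vanishingIdeal_eq_closure]
    exact hZc.closure_eq
  let _ : Algebra A B := φ.hom.toAlgebra
  have HA : ∀ (q : Ideal B) [q.IsPrime], J ≤ q → Module.Flat A (Localization.AtPrime q) := by
    intro q hq hJq
    let v : PrimeSpectrum B := ⟨q, hq⟩
    have hv : v ∈ Zc := by
      rw [← hJ]
      exact hJq
    have h1 := H v hv
    have h2 : (Localization.localRingHom (Ideal.comap φ.hom q) q φ.hom rfl).Flat :=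
      (RingHom.Flat.respectsIso.arrow_mk_iso_iff (Scheme.arrowStalkMapSpecIso φ v)).1 h1
    algebraize_only [Localization.localRingHom (Ideal.comap φ.hom q) q φ.hom rfl]
    have : IsScalarTower A (Localization.AtPrime (Ideal.comap φ.hom q)) (Localization.AtPrime q) :=
      .of_algebraMap_eq fun x ↦ (Localization.localRingHom_to_map _ _ _ rfl x).symm
    have h3 : Module.Flat (Localization.AtPrime (Ideal.comap φ.hom q)) (Localization.AtPrime q) := h2
    exact Module.Flat.trans A (Localization.AtPrime (Ideal.comap φ.hom q)) (Localization.AtPrime q)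
  have hfl := flat_localization_oneAdd J HA
  refine ⟨.of (Localization (oneAdd J)), CommRingCat.ofHom (algebraMap B _), ?_, ?_⟩
  · rw [← Spec.map_comp, HasRingHomProperty.Spec_iff (P := @Flat)]
    change (algebraMap A (Localization (oneAdd J))).Flat
    rw [RingHom.flat_algebraMap_iff]
    exact hfl
  · intro v hv
    have hJv : J ≤ v.asIdeal := by
      rw [← hJ] at hv
      exact hv
    have hdisj := disjoint_oneAdd v.asIdeal hJv
    refine ⟨⟨Ideal.map (algebraMap B (Localization (oneAdd J))) v.asIdeal,
      IsLocalization.isPrime_of_isPrime_disjoint (oneAdd J) _ _ v.2 hdisj⟩, ?_⟩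
    apply PrimeSpectrum.ext
    change Ideal.comap _ (Ideal.map _ _) = _
    exact IsLocalization.under_map_of_isPrime_disjoint (oneAdd J) _ v.2 hdisj

end Spec

end Groth.Agent.H53.Fpqc
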